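import Mathlib
import Groth.Agent.S0406

/-!
# Flat algebras of finite type over a valuation ring with reduced special fibre
-/

set_option autoImplicit false
set_option linter.style.haveILetI false

noncomputable section

universe u

namespace RedFibValLib

variable {R A : Type u} [CommRing R] [IsDomain R] [ValuationRing R] [CommRing A] [Algebra R A]

/-- An element of `π A` for `π` a sum over an ideal is a multiple of a single element. -/
theorem exists_dvd_of_mem_map (I : Ideal R) {y : A} (hy : y ∈ I.map (algebraMap R A)) :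
    ∃ r ∈ I, ∃ z : A, y = algebraMap R A r * z := by
  induction hy using Submodule.span_induction with
  | mem x hx => obtain ⟨r, hr, rfl⟩ := hx; exact ⟨r, hr, 1, (mul_one _).symm⟩
  | zero => exact ⟨0, I.zero_mem, 0, by simp⟩
  | smul a x _ hx => obtain ⟨r, hr, z, rfl⟩ := hx; exact ⟨r, hr, a * z, by rw [smul_eq_mul]; ring⟩
  | add x y _ _ hx hy =>
    obtain ⟨r, hr, z, rfl⟩ := hx
    obtain ⟨r', hr', z', rfl⟩ := hy
    rcases ValuationRing.dvd_total r r' with ⟨c, rfl⟩ | ⟨c, rfl⟩
    · exact ⟨r, hr, z + algebraMap R A c * z', by rw [map_mul]; ring⟩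
    · exact ⟨r', hr', algebraMap R A c * z + z', by rw [map_mul]; ring⟩

variable [Algebra.FiniteType R A] [Module.Flat R A]

omit [Algebra.FiniteType R A] in
theorem mul_mem_map_cancel (p : Ideal R) [p.IsPrime] {r : R} (hr : r ∉ p) {y : A}
    (hy : algebraMap R A r * y ∈ p.map (algebraMap R A)) : y ∈ p.map (algebraMap R A) := by
  obtain ⟨π, hπ, z, hz⟩ := exists_dvd_of_mem_map p hy
  have hr0 : r ≠ 0 := fun h => hr (h ▸ p.zero_mem)
  rcases ValuationRing.dvd_total r π with ⟨c, rfl⟩ | ⟨c, rfl⟩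
  · have hc : c ∈ p := (Ideal.IsPrime.mem_or_mem inferInstance hπ).resolve_left hr
    rw [map_mul, mul_assoc, ← Algebra.smul_def, ← Algebra.smul_def r] at hz
    rw [show y = algebraMap R A c * z from
      (Module.Flat.isSMulRegular_of_isRegular (isRegular_iff_ne_zero.2 hr0)) hz]
    exact Ideal.mul_mem_right _ _ (Ideal.mem_map_of_mem _ hc)
  · exact (hr (p.mul_mem_right c hπ)).elim

/-- **The local criterion.** -/
theorem exists_not_mem_mul_mem (P : Ideal A) [P.IsPrime]
    (hP : (IsLocalRing.maximalIdeal R).map (algebraMap R A) ≤ P)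
    (hred : ∀ a ∈ ((IsLocalRing.maximalIdeal R).map (algebraMap R A)).radical,
      ∃ t ∉ P, t * a ∈ (IsLocalRing.maximalIdeal R).map (algebraMap R A))
    (p : Ideal R) [p.IsPrime] {a : A} (ha : a ∈ (p.map (algebraMap R A)).radical) :
    ∃ t ∉ P, t * a ∈ p.map (algebraMap R A) := by
  set pA := p.map (algebraMap R A)
  set J := pA.radical
  haveI : IsBezout (R ⧸ p) := Function.Surjective.isBezout (Ideal.Quotient.mk p) Ideal.Quotient.mk_surjective
  have hpJ : pA ≤ J := Ideal.le_radical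
  have hcancel : ∀ {r : R}, r ∉ p → ∀ {y : A}, algebraMap R A r * y ∈ J → y ∈ J := by
    intro r hr y ⟨n, hn⟩
    rw [mul_pow, ← map_pow] at hn
    exact ⟨n, mul_mem_map_cancel p (fun h => hr (Ideal.IsPrime.mem_of_pow_mem inferInstance n h)) hn⟩
  letI algQ : Algebra (R ⧸ p) (A ⧸ pA) :=
    (Ideal.quotientMap pA (algebraMap R A) Ideal.le_comap_map).toAlgebra
  letI algJ : Algebra (R ⧸ p) (A ⧸ J) :=
    ((Ideal.Quotient.factor hpJ).comp (Ideal.quotientMap pA (algebraMap R A) Ideal.le_comap_map)).toAlgebra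
  haveI : IsScalarTower R (R ⧸ p) (A ⧸ pA) := .of_algebraMap_eq fun _ => rfl
  haveI : IsScalarTower R (R ⧸ p) (A ⧸ J) := .of_algebraMap_eq fun _ => rfl
  haveI : Algebra.FiniteType R (A ⧸ pA) :=
    Algebra.FiniteType.of_surjective (Ideal.Quotient.mkₐ R pA) (Ideal.Quotient.mkₐ_surjective R pA)
  haveI : Algebra.FiniteType R (A ⧸ J) :=
    Algebra.FiniteType.of_surjective (Ideal.Quotient.mkₐ R J) (Ideal.Quotient.mkₐ_surjective R J)
  haveI : Algebra.FiniteType (R ⧸ p) (A ⧸ pA) := .of_restrictScalars_finiteType R _ _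
  haveI : Algebra.FiniteType (R ⧸ p) (A ⧸ J) := .of_restrictScalars_finiteType R _ _
  have htf : ∀ (I : Ideal A) [Algebra (R ⧸ p) (A ⧸ I)] [IsScalarTower R (R ⧸ p) (A ⧸ I)],
      (∀ {r : R}, r ∉ p → ∀ {y : A}, algebraMap R A r * y ∈ I → y ∈ I) →
      Module.Flat (R ⧸ p) (A ⧸ I) := by
    intro I _ _ hI
    rw [Module.Flat.flat_iff_torsion_eq_bot_of_isBezout, eq_bot_iff]
    rintro x ⟨⟨c, hc⟩, hx⟩
    obtain ⟨r, rfl⟩ := Ideal.Quotient.mk_surjective c
    obtain ⟨y, rfl⟩ := Ideal.Quotient.mk_surjective x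
    have hr : r ∉ p := fun h => nonZeroDivisors.ne_zero hc (Ideal.Quotient.eq_zero_iff_mem.2 h)
    replace hx : (algebraMap R (R ⧸ p) r) • (Ideal.Quotient.mk I y) = 0 := hx
    rw [algebraMap_smul, Algebra.smul_def, ← Ideal.Quotient.mk_algebraMap,
      ← map_mul, Ideal.Quotient.eq_zero_iff_mem] at hx
    exact Ideal.Quotient.eq_zero_iff_mem.2 (hI hr hx)
  haveI := htf pA (fun hr _ h => mul_mem_map_cancel p hr h)
  haveI := htf J (fun hr _ h => hcancel hr h)
  haveI : Algebra.FinitePresentation (R ⧸ p) (A ⧸ pA) := Groth.Agent.S0406.result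
  haveI : Algebra.FinitePresentation (R ⧸ p) (A ⧸ J) := Groth.Agent.S0406.result
  let π : (A ⧸ pA) →ₐ[R ⧸ p] (A ⧸ J) := { Ideal.Quotient.factor hpJ with commutes' := fun _ => rfl }
  have hfg : (RingHom.ker π.toRingHom).FG :=
    Algebra.FinitePresentation.ker_fG_of_surjective π (Ideal.Quotient.factor_surjective hpJ)
  have hker : RingHom.ker π.toRingHom = J.map (Ideal.Quotient.mk pA) := Ideal.Quotient.factor_ker hpJ
  rw [hker] at hfg
  -- localise at `P`
  let L := Localization.AtPrime P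
  let ψ := algebraMap A L
  have hpAP : pA ≤ P := fun x hx => hP (Ideal.map_mono (IsLocalRing.le_maximalIdeal ‹p.IsPrime›.ne_top) hx)
  have key : J.map ψ ≤ pA.map ψ ⊔ IsLocalRing.maximalIdeal L * J.map ψ := by
    refine Ideal.map_le_iff_le_comap.2 fun a ha => ?_
    obtain ⟨t, ht, hta⟩ := hred a (Ideal.radical_mono (Ideal.map_mono
      (IsLocalRing.le_maximalIdeal ‹p.IsPrime›.ne_top)) ha)
    obtain ⟨r, hr, b, hb⟩ := exists_dvd_of_mem_map _ hta
    have h2 : ψ (t * a) ∈ pA.map ψ ⊔ IsLocalRing.maximalIdeal L * J.map ψ := by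
      rw [hb]
      by_cases hrp : r ∈ p
      · exact Ideal.mem_sup_left (Ideal.mem_map_of_mem ψ (Ideal.mul_mem_right _ _ (Ideal.mem_map_of_mem _ hrp)))
      · refine Ideal.mem_sup_right ?_
        rw [map_mul]
        exact Ideal.mul_mem_mul ((IsLocalization.AtPrime.to_map_mem_maximal_iff L P _).2
          (hP (Ideal.mem_map_of_mem _ hr)))
          (Ideal.mem_map_of_mem ψ (hcancel hrp (hb ▸ J.mul_mem_left t ha)))
    rw [map_mul] at h2
    exact (Ideal.unit_mul_mem_iff_mem _ (IsLocalization.map_units L (⟨t, ht⟩ : P.primeCompl))).1 h2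
  -- generators of `J` modulo `pA`
  obtain ⟨s, hs⟩ := hfg
  let lift : A ⧸ pA → A := Function.surjInv Ideal.Quotient.mk_surjective
  let J₀ : Ideal A := Ideal.span (lift '' (s : Set (A ⧸ pA)))
  have hJ₀fg : (J₀.map ψ).FG := Ideal.FG.map (Submodule.fg_span (s.finite_toSet.image _)) ψ
  have hJ : J = J₀ ⊔ pA := by
    have h0 : J₀.map (Ideal.Quotient.mk pA) = J.map (Ideal.Quotient.mk pA) := by
      rw [← hs, Ideal.map_span, Set.image_image]
      have h1 : ∀ x, Ideal.Quotient.mk pA (lift x) = x := Function.surjInv_eq Ideal.Quotient.mk_surjective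
      simp only [h1, Set.image_id']
    have h2 := congrArg (Ideal.comap (Ideal.Quotient.mk pA)) h0
    rw [Ideal.comap_map_of_surjective _ Ideal.Quotient.mk_surjective,
      Ideal.comap_map_of_surjective _ Ideal.Quotient.mk_surjective, ← RingHom.ker_eq_comap_bot, Ideal.mk_ker,
      sup_eq_left.2 hpJ] at h2
    exact h2.symm
  have hle : J₀.map ψ ≤ pA.map ψ := by
    refine Submodule.le_of_le_smul_of_le_jacobson_bot hJ₀fg (IsLocalRing.jacobson_eq_maximalIdeal ⊥ bot_ne_top).ge ?_
    have h3 := key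
    rw [hJ, Ideal.map_sup, Ideal.mul_sup] at h3
    refine (le_sup_left.trans h3).trans (sup_le le_sup_left (sup_le ?_ (Ideal.mul_le_right.trans le_sup_left)))
    exact le_sup_right
  have hmem : ψ a ∈ pA.map ψ := by
    have := Ideal.mem_map_of_mem ψ (hJ ▸ ha : a ∈ J₀ ⊔ pA)
    rw [Ideal.map_sup, sup_eq_right.2 hle] at this
    exact this
  obtain ⟨t, ht, hmem'⟩ := (IsLocalization.algebraMap_mem_map_algebraMap_iff P.primeCompl L pA a).1 hmem
  exact ⟨t, ht, hmem'⟩

end RedFibValLib
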