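import Groth.Agent.RedFibValLib.Alg
import Groth.Agent.RelQRegLib.Cartier
import Mathlib

/-!
# Schemes flat over a valuation ring with reduced special fibre
-/

set_option autoImplicit false
set_option linter.style.haveILetI false
set_option backward.isDefEq.respectTransparency.types false

noncomputable section

universe u

open CategoryTheory CategoryTheory.Limits AlgebraicGeometry

namespace RedFibValLib

/-- A stalk `A_Q / (p A_Q)` is reduced iff every element of `rad (pA)` is killed into `pA` outside `Q`. -/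
theorem isReduced_quot_iff {A L T : Type u} [CommRing A] [CommRing L] [CommRing T] [Algebra A L]
    (Q : Ideal A) [Q.IsPrime] [IsLocalization.AtPrime L Q] (I : Ideal A) (π : L →+* T)
    (hπ : Function.Surjective π) (hker : RingHom.ker π = I.map (algebraMap A L)) :
    IsReduced T ↔ ∀ a ∈ I.radical, ∃ t ∉ Q, t * a ∈ I := by
  have key : ∀ a : A, π (algebraMap A L a) = 0 ↔ ∃ t ∉ Q, t * a ∈ I := fun a => by
    rw [← RingHom.mem_ker, hker, IsLocalization.algebraMap_mem_map_algebraMap_iff Q.primeCompl]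
    rfl
  refine ⟨fun _ a ha => (key a).1 ?_, fun h => ⟨fun x ⟨n, hn⟩ => ?_⟩⟩
  · obtain ⟨n, hn⟩ := ha
    refine IsNilpotent.eq_zero ⟨n, ?_⟩
    rw [← map_pow, ← map_pow, key]
    exact ⟨1, fun h1 => ‹Q.IsPrime›.ne_top ((Ideal.eq_top_iff_one _).2 h1), by simpa using hn⟩
  · obtain ⟨z, rfl⟩ := hπ x
    obtain ⟨a, u, rfl⟩ := IsLocalization.exists_mk'_eq Q.primeCompl z
    have hu : IsUnit (π (algebraMap A L (u : A))) := (IsLocalization.map_units L u).map π
    have e : π (IsLocalization.mk' L a u) * π (algebraMap A L (u : A)) = π (algebraMap A L a) := by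
      rw [← map_mul, IsLocalization.mk'_spec]
    obtain ⟨t, ht, hta⟩ : ∃ t ∉ Q, t * a ^ n ∈ I := (key _).1 (by
      rw [map_pow, map_pow, ← e, mul_pow, hn, zero_mul])
    have hrad : t * a ∈ I.radical := ⟨n + 1, by
      rw [show (t * a) ^ (n + 1) = t * a ^ n * (t ^ n * a) by ring]
      exact I.mul_mem_right _ hta⟩
    obtain ⟨t', ht', h'⟩ := h _ hrad
    have : π (algebraMap A L a) = 0 := (key a).2
      ⟨t' * t, fun hh => (Ideal.IsPrime.mem_or_mem inferInstance hh).elim ht' ht, by rwa [mul_assoc]⟩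
    rw [← e] at this
    exact hu.mul_left_eq_zero.1 this

variable {R : Type u} [CommRing R] {X : Scheme.{u}} (f : X ⟶ Spec (CommRingCat.of R))

/-- The structure map of the sections over an open. -/
def chartHom (U : X.Opens) : R →+* Γ(X, U) :=
  ((Scheme.ΓSpecIso (CommRingCat.of R)).inv ≫ f.appLE ⊤ U le_top).hom

theorem isReduced_stalk_fiber_iff {U : X.Opens} (hU : IsAffineOpen U) (x : X) (hx : x ∈ U)
    {s : ↑(Spec (CommRingCat.of R))} (x' : f.fiber s) (hx' : f.fiberι s x' = x) :
    _root_.IsReduced ((f.fiber s).presheaf.stalk x') ↔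
      ∀ a ∈ ((((hU.primeIdealOf ⟨x, hx⟩).asIdeal.comap (chartHom f U))).map (chartHom f U)).radical,
        ∃ t ∉ (hU.primeIdealOf ⟨x, hx⟩).asIdeal,
          t * a ∈ ((hU.primeIdealOf ⟨x, hx⟩).asIdeal.comap (chartHom f U)).map (chartHom f U) := by
  subst hx'
  letI := X.presheaf.algebra_section_stalk (⟨f.fiberι s x', hx⟩ : U)
  haveI : IsLocalization.AtPrime (X.presheaf.stalk (f.fiberι s x'))
      (hU.primeIdealOf ⟨f.fiberι s x', hx⟩).asIdeal := hU.isLocalization_stalk ⟨_, hx⟩
  refine isReduced_quot_iff _ _ ((f.fiberι s).stalkMap x').hom (Groth.Agent.S9501.result f s x').1 ?_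
  rw [RelQRegLib.ker_fibre_stalkMap f x' (isAffineOpen_top _) hU le_top hx, chartHom, CommRingCat.hom_comp,
    ← Ideal.comap_comap, ← Ideal.map_map, Ideal.map_comap_of_surjective _
      (ConcreteCategory.bijective_of_isIso (Scheme.ΓSpecIso (CommRingCat.of R)).inv).2]
  rfl

theorem isReduced_stalk_iff {U : X.Opens} (hU : IsAffineOpen U) (x : X) (hx : x ∈ U) :
    _root_.IsReduced (X.presheaf.stalk x) ↔ ∀ a ∈ (⊥ : Ideal Γ(X, U)).radical,
      ∃ t ∉ (hU.primeIdealOf ⟨x, hx⟩).asIdeal, t * a ∈ (⊥ : Ideal Γ(X, U)) := by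
  letI := X.presheaf.algebra_section_stalk (⟨x, hx⟩ : U)
  haveI : IsLocalization.AtPrime (X.presheaf.stalk x)
      (hU.primeIdealOf ⟨x, hx⟩).asIdeal := hU.isLocalization_stalk ⟨_, hx⟩
  exact isReduced_quot_iff _ _ (RingHom.id _) Function.surjective_id (by
    rw [Ideal.map_bot]; exact (RingHom.injective_iff_ker_eq_bot _).1 Function.injective_id)

theorem comap_chartHom_primeIdealOf {U : X.Opens} (hU : IsAffineOpen U) (x : X) (hx : x ∈ U) :
    (hU.primeIdealOf ⟨x, hx⟩).asIdeal.comap (chartHom f U) = (f x).asIdeal := by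
  rw [chartHom, CommRingCat.hom_comp, ← Ideal.comap_comap]
  have h := IsAffineOpen.comap_primeIdealOf_appLE (f := f) ⊤ (isAffineOpen_top _) U hU le_top hx
  have h2 := congrArg PrimeSpectrum.asIdeal h
  rw [PrimeSpectrum.comap_asIdeal] at h2
  refine (congrArg _ h2).trans ?_
  have h3 := (isAffineOpen_top (Spec (CommRingCat.of R))).fromSpec_primeIdealOf ⟨f x, trivial⟩
  rw [IsAffineOpen.fromSpec_top, Scheme.isoSpec_Spec_inv] at h3
  exact congrArg PrimeSpectrum.asIdeal h3

theorem exists_specializes_closedPoint [IsLocalRing R] [UniversallyClosed f] (x : X) :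
    ∃ y : X, x ⤳ y ∧ f y = IsLocalRing.closedPoint R := by
  have h : IsLocalRing.closedPoint R ∈ f '' closure {x} :=
    (IsLocalRing.specializes_closedPoint (f x)).mem_closed (f.isClosedMap _ isClosed_closure)
      ⟨x, subset_closure rfl, rfl⟩
  obtain ⟨y, hy, he⟩ := h
  exact ⟨y, specializes_iff_mem_closure.2 hy, he⟩

theorem not_mem_of_specializes {U : X.Opens} (hU : IsAffineOpen U) {x y : X} (h : x ⤳ y) (hy : y ∈ U)
    {t : Γ(X, U)} (ht : t ∉ (hU.primeIdealOf ⟨y, hy⟩).asIdeal) :
    t ∉ (hU.primeIdealOf ⟨x, h.mem_open U.2 hy⟩).asIdeal :=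
  (AssPointLib.mem_basicOpen_iff hU _ t).1
    (h.mem_open (X.basicOpen t).2 ((AssPointLib.mem_basicOpen_iff hU hy t).2 ht))

variable [IsDomain R] [ValuationRing R] [Flat f] [LocallyOfFiniteType f]

/-- The chart statement at a point of the special fibre. -/
theorem exists_not_mem_mul_mem_chart (hred : IsReduced (f.fiber (IsLocalRing.closedPoint R)))
    {U : X.Opens} (hU : IsAffineOpen U) (y : X) (hy : y ∈ U) (hfy : f y = IsLocalRing.closedPoint R)
    (p : Ideal R) [p.IsPrime] {a : Γ(X, U)} (ha : a ∈ (p.map (chartHom f U)).radical) :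
    ∃ t ∉ (hU.primeIdealOf ⟨y, hy⟩).asIdeal, t * a ∈ p.map (chartHom f U) := by
  obtain ⟨y', hy'⟩ : ∃ y' : f.fiber (IsLocalRing.closedPoint R), f.fiberι _ y' = y := by
    rw [← hfy]; exact ⟨_, f.fiberι_asFiber y⟩
  have hc : (hU.primeIdealOf ⟨y, hy⟩).asIdeal.comap (chartHom f U) = IsLocalRing.maximalIdeal R := by
    rw [comap_chartHom_primeIdealOf f hU y hy, hfy]; rfl
  have h := (isReduced_stalk_fiber_iff f hU y hy y' hy').1 inferInstance
  rw [hc] at h
  letI : Algebra R Γ(X, U) := (chartHom f U).toAlgebra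
  haveI : Module.Flat R Γ(X, U) := by
    have h1 := Flat.flat_appLE f (isAffineOpen_top _) hU le_top
    exact RingHom.Flat.comp (RingHom.Flat.of_bijective
      (ConcreteCategory.bijective_of_isIso (Scheme.ΓSpecIso (CommRingCat.of R)).inv)) h1
  haveI : Algebra.FiniteType R Γ(X, U) := by
    have h1 := f.finiteType_appLE (isAffineOpen_top _) hU le_top
    exact RingHom.FiniteType.comp h1 (RingHom.FiniteType.of_surjective _
      (ConcreteCategory.bijective_of_isIso (Scheme.ΓSpecIso (CommRingCat.of R)).inv).2)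
  exact exists_not_mem_mul_mem (R := R) _ (hc ▸ Ideal.map_comap_le) h p ha

theorem isReduced_and_isReduced_fiber [UniversallyClosed f]
    (hred : IsReduced (f.fiber (IsLocalRing.closedPoint R))) :
    IsReduced X ∧ ∀ s : ↑(Spec (CommRingCat.of R)), IsReduced (f.fiber s) := by
  constructor
  · haveI : ∀ x : X, _root_.IsReduced (X.presheaf.stalk x) := fun x => by
      obtain ⟨y, hxy, hfy⟩ := exists_specializes_closedPoint f x
      obtain ⟨U, hU, hyU, -⟩ := exists_isAffineOpen_mem_and_subset (x := y) (U := ⊤) trivial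
      refine (isReduced_stalk_iff hU x (hxy.mem_open U.2 hyU)).2 fun a ha => ?_
      obtain ⟨t, ht, hta⟩ := exists_not_mem_mul_mem_chart f hred hU y hyU hfy ⊥ (a := a)
        (by rwa [Ideal.map_bot])
      exact ⟨t, not_mem_of_specializes hU hxy hyU ht, by rwa [Ideal.map_bot] at hta⟩
    exact isReduced_of_isReduced_stalk X
  · intro s
    haveI : ∀ x' : f.fiber s, _root_.IsReduced ((f.fiber s).presheaf.stalk x') := fun x' => by
      obtain ⟨y, hxy, hfy⟩ := exists_specializes_closedPoint f (f.fiberι s x')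
      obtain ⟨U, hU, hyU, -⟩ := exists_isAffineOpen_mem_and_subset (x := y) (U := ⊤) trivial
      refine (isReduced_stalk_fiber_iff f hU _ (hxy.mem_open U.2 hyU) x' rfl).2 fun a ha => ?_
      obtain ⟨t, ht, hta⟩ := exists_not_mem_mul_mem_chart f hred hU y hyU hfy _ ha
      exact ⟨t, not_mem_of_specializes hU hxy hyU ht, hta⟩
    exact isReduced_of_isReduced_stalk _

end RedFibValLib
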